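import Cfsg.Agent.Lib.AH.SD

set_option autoImplicit false

namespace CfsgLib.AH

open Subgroup

universe u

/-- Gow's theorem from its module version. -/
theorem gow_of {p : ℕ} (hp : p.Prime)
    (hmod : ∀ [Fact p.Prime] (_ : 7 ≤ p) {G V : Type u} [Group G] [Finite G]
      (_ : Group.IsSolvable G) (_ : RatG G) [AddCommGroup V] [Module (ZMod p) V] [Finite V]
      [DistribMulAction G V] [SMulCommClass G (ZMod p) V] (_ : ∃ v : V, v ≠ 0)
      (N : Subgroup G) (_ : ∀ n ∈ N, ∀ v : V, n • v = v) (_ : ¬ p ∣ N.index)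
      (_ : ∀ (w : V) (c : ZMod p), c ≠ 0 → ∃ g : G, g • w = c • w)
      (B : V →ₗ[ZMod p] V →ₗ[ZMod p] ZMod p)
      (_ : ∀ (y : G) (a b : V), B (y • a) (y • b) = B a b)
      (_ : ∀ a, (∀ b, B a b = 0) → a = 0) (_ : ∀ a, B a a = 0), False)
    (G : Type u) [Group G] [Finite G] :
    Group.IsSolvable G → RatG G → p ∣ Nat.card G → p = 2 ∨ p = 3 ∨ p = 5 := by
  have := Fact.mk hp
  refine card_induction (P := fun G _ _ => Group.IsSolvable G → RatG G → p ∣ Nat.card G →
    p = 2 ∨ p = 3 ∨ p = 5) (fun G _ _ ih hs h hd => ?_) G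
  by_contra hne
  have h7 : 7 ≤ p := by
    by_contra h7
    have := hp.two_le
    have h4 : p ≠ 4 := fun e => absurd (e ▸ hp) (by norm_num)
    have h6 : p ≠ 6 := fun e => absurd (e ▸ hp) (by norm_num)
    omega
  have : Nontrivial G := Finite.one_lt_card_iff_nontrivial.1
    (hp.one_lt.trans_le (Nat.le_of_dvd Nat.card_pos hd))
  obtain ⟨M, hM⟩ := exists_isMinNormal (G := G)
  have := hM.1
  have h1 : ¬ p ∣ M.index := fun e => hne (ih _ (card_quotient_lt hM.2.1) inferInstance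
    (h.quot _ (QuotientGroup.mk'_surjective M)) e)
  obtain ⟨r, hr, hE⟩ := hM.exists_isElementaryAbelian inferInstance
  have := Fact.mk hr
  obtain ⟨j, hj⟩ := IsPGroup.iff_card.1 (isPGroup_of_isElementaryAbelian hE)
  rw [← M.index_mul_card, hj] at hd
  obtain rfl := (Nat.prime_dvd_prime_iff_eq hp hr).1
    (hp.dvd_of_dvd_pow ((hp.dvd_mul.1 hd).resolve_left h1))
  obtain ⟨W, _, _, _, _, ι, e⟩ := exists_mod M hE
  have := e.finite
  obtain ⟨ev, B, inv, nd, al⟩ := alt (r := p) (by omega) h hM e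
  refine hmod h7 hs h ?_ M (fun m hm w => e.smul_eq.2
    (have := hE.1; mul_comm_of_mem_isMulCommutative M hm (e.mem' w))) h1 ev B inv nd al
  by_contra h'
  push Not at h'
  refine hM.2.1 (eq_bot_iff.2 fun x hx => ?_)
  obtain ⟨a, rfl⟩ := (e.mem x).1 hx
  rw [h' a, e.zero]
  exact one_mem _

end CfsgLib.AH
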